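import Mathlib

set_option autoImplicit false

namespace Groth.Agent.H5.DvrEt

open IsLocalRing

section L0

variable {S : Type*} [CommRing S] [IsNoetherianRing S] [IsLocalRing S] (ϖ : S)
  (hm : maximalIdeal S = Ideal.span {ϖ}) (hreg : IsSMulRegular S ϖ)

include hm in
lemma exists_eq_pow_mul_unit (y : S) (hy : y ≠ 0) : ∃ (n : ℕ) (u : Sˣ), y = ϖ ^ n * u := by
  classical
  have hK : ⨅ i : ℕ, maximalIdeal S ^ i = ⊥ :=
    Ideal.iInf_pow_eq_bot_of_isLocalRing _ (Ideal.IsPrime.ne_top')
  have hex : ∃ n : ℕ, y ∉ maximalIdeal S ^ n := by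
    by_contra hcon
    push Not at hcon
    have : y ∈ ⨅ i : ℕ, maximalIdeal S ^ i := by
      rw [Ideal.mem_iInf]
      exact hcon
    rw [hK] at this
    exact hy (by simpa using this)
  let n := Nat.find hex
  have hn : y ∉ maximalIdeal S ^ n := Nat.find_spec hex
  have hn0 : n ≠ 0 := by
    intro h0
    rw [h0, pow_zero, Ideal.one_eq_top] at hn
    exact hn Submodule.mem_top
  obtain ⟨m, hm'⟩ := Nat.exists_eq_succ_of_ne_zero hn0
  have hmem : y ∈ maximalIdeal S ^ m := by
    by_contra hcon
    have := Nat.find_min' hex hcon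
    omega
  rw [hm, Ideal.span_singleton_pow, Ideal.mem_span_singleton'] at hmem
  obtain ⟨u, hu⟩ := hmem
  have huu : IsUnit u := by
    by_contra hnu
    have humem : u ∈ maximalIdeal S := (mem_maximalIdeal u).mpr hnu
    rw [hm, Ideal.mem_span_singleton'] at humem
    obtain ⟨v, hv⟩ := humem
    apply hn
    rw [hm', hm, Ideal.span_singleton_pow, Ideal.mem_span_singleton']
    refine ⟨v, ?_⟩
    rw [← hu, ← hv, pow_succ]
    ring
  refine ⟨m, huu.unit, ?_⟩
  rw [IsUnit.unit_spec, ← hu, mul_comm]

include hreg in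
lemma pow_ne_zero_of_reg (n : ℕ) : ϖ ^ n ≠ 0 := by
  intro h0
  have hreg' : IsSMulRegular S (ϖ ^ n) := hreg.pow n
  have : (ϖ ^ n) • (1 : S) = (ϖ ^ n) • (0 : S) := by simp [h0]
  exact one_ne_zero (hreg' this)

include hm hreg in
theorem isDomain_of_principal : IsDomain S := by
  haveI : NoZeroDivisors S := by
    refine ⟨fun {y1 y2} h12 => ?_⟩
    by_contra hcon
    push Not at hcon
    obtain ⟨n1, u1, h1⟩ := exists_eq_pow_mul_unit ϖ hm y1 hcon.1
    obtain ⟨n2, u2, h2⟩ := exists_eq_pow_mul_unit ϖ hm y2 hcon.2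
    have : ϖ ^ (n1 + n2) * ((u1 * u2 : Sˣ) : S) = 0 := by
      rw [← h12, h1, h2, pow_add, Units.val_mul]
      ring
    rw [Units.mul_left_eq_zero] at this
    exact pow_ne_zero_of_reg ϖ hreg _ this
  exact NoZeroDivisors.to_isDomain S

include hm hreg in
theorem isDVR_of_principal :
    ∃ (_ : IsDomain S), IsDiscreteValuationRing S := by
  haveI := isDomain_of_principal ϖ hm hreg
  refine ⟨inferInstance, ?_⟩
  have hnf : ¬ IsField S := by
    rw [isField_iff_maximalIdeal_eq, hm, Ideal.span_singleton_eq_bot]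
    simpa using pow_ne_zero_of_reg ϖ hreg 1
  refine ((IsDiscreteValuationRing.TFAE S hnf).out 0 4).mpr ?_
  rw [hm]
  exact ⟨⟨ϖ, rfl⟩⟩

end L0

section L1

variable (B : Type*) [CommRing B] [IsDomain B] [IsDiscreteValuationRing B]
  (E : Type*) [CommRing E] [Algebra B E] [Algebra.Etale B E]
  (Q : Ideal E) [Q.IsPrime] (hQ : Q.comap (algebraMap B E) = maximalIdeal B)

include hQ in
theorem l1 :
    ∃ (_ : IsDomain (Localization.AtPrime Q)),
      IsDiscreteValuationRing (Localization.AtPrime Q) ∧
      Function.Injective (algebraMap B (Localization.AtPrime Q)) ∧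
      Ideal.map (algebraMap B (Localization.AtPrime Q)) (maximalIdeal B) =
        maximalIdeal (Localization.AtPrime Q) := by
  set B' := Localization.AtPrime Q
  haveI : IsNoetherianRing E := Algebra.FiniteType.isNoetherianRing B E
  haveI : IsNoetherianRing B' := IsLocalization.isNoetherianRing Q.primeCompl B' inferInstance
  haveI : Module.Flat B B' := Module.Flat.trans B E B'
  haveI : Algebra.FormallyUnramified E B' := .of_isLocalization Q.primeCompl
  haveI : Algebra.FormallyUnramified B B' := .comp B E B'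
  haveI : IsLocalHom (algebraMap B B') := by
    refine ((local_hom_TFAE (algebraMap B B')).out 0 4).mpr ?_
    have h1 : (maximalIdeal B').under E = Q := IsLocalization.AtPrime.under_maximalIdeal B' Q
    rw [Ideal.under_def] at h1
    rw [IsScalarTower.algebraMap_eq B E B', ← Ideal.comap_comap, h1, hQ]
  have hmap : Ideal.map (algebraMap B B') (maximalIdeal B) = maximalIdeal B' :=
    Algebra.FormallyUnramified.map_maximalIdeal
  obtain ⟨ϖ, hϖ⟩ := IsDiscreteValuationRing.exists_irreducible B
  have hm : maximalIdeal B' = Ideal.span {algebraMap B B' ϖ} := by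
    rw [← hmap, hϖ.maximalIdeal_eq, Ideal.map_span, Set.image_singleton]
  have hreg : IsSMulRegular B' (algebraMap B B' ϖ) := by
    apply IsSMulRegular.of_flat
    exact (IsRegular.of_ne_zero hϖ.ne_zero).left.isSMulRegular
  obtain ⟨hdom, hdvr⟩ := isDVR_of_principal (algebraMap B B' ϖ) hm hreg
  refine ⟨hdom, hdvr, ?_, hmap⟩
  rw [injective_iff_map_eq_zero]
  intro b hb
  by_contra hb0
  have hreg' : IsSMulRegular B' (algebraMap B B' b) :=
    IsSMulRegular.of_flat (IsRegular.of_ne_zero hb0).left.isSMulRegular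
  change algebraMap B B' b = 0 at hb
  have : algebraMap B B' b • (1 : B') = algebraMap B B' b • (0 : B') := by
    rw [hb, zero_smul, zero_smul]
  exact one_ne_zero (hreg' this)

end L1

end Groth.Agent.H5.DvrEt
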