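import Mathlib
import Groth.Agent.Lib.Helper5.DvrEt.A

set_option autoImplicit false

namespace Groth.Agent.H5.DvrEt

open IsLocalRing TensorProduct MvPolynomial

section L2

variable (B : Type*) [CommRing B] (E : Type*) [CommRing E] [Algebra B E]
  {k : Type*} [Field k] (θ : E →+* k)
  (hsurj : Function.Surjective (θ.comp (algebraMap B E)))

include hsurj in
theorem l2 :
    haveI : (RingHom.ker θ).IsPrime := RingHom.ker_isPrime θ
    Function.Surjective ((IsLocalRing.residue (Localization.AtPrime (RingHom.ker θ))).comp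
      (algebraMap B (Localization.AtPrime (RingHom.ker θ)))) := by
  haveI : (RingHom.ker θ).IsPrime := RingHom.ker_isPrime θ
  have hθ : Function.Surjective θ := fun y => by
    obtain ⟨b, hb⟩ := hsurj y
    exact ⟨_, hb⟩
  haveI : (RingHom.ker θ).IsMaximal := RingHom.ker_isMaximal_of_surjective θ hθ
  intro y
  obtain ⟨e, rfl⟩ := Ideal.algebraMap_residueField_surjective (RingHom.ker θ) y
  obtain ⟨b, hb⟩ := hsurj (θ e)
  refine ⟨b, ?_⟩
  have hmem : e - algebraMap B E b ∈ RingHom.ker θ := by
    rw [RingHom.mem_ker, map_sub, sub_eq_zero]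
    exact hb.symm
  have h0 := (Ideal.algebraMap_residueField_eq_zero (I := RingHom.ker θ)).mpr hmem
  rw [map_sub, sub_eq_zero] at h0
  rw [h0, RingHom.comp_apply, IsScalarTower.algebraMap_apply B E (Localization.AtPrime _)]
  rfl

end L2

section Core

universe u

variable (B : Type u) [CommRing B] [IsDomain B] [IsDiscreteValuationRing B]
  {n : ℕ} (A1 : Type u) [CommRing A1] [Algebra B A1]
  [Algebra (MvPolynomial (Fin n) B) A1] [IsScalarTower B (MvPolynomial (Fin n) B) A1]
  [Algebra.Etale (MvPolynomial (Fin n) B) A1]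
  {k : Type*} [Field k] (χ : A1 →+* k)
  (hker : RingHom.ker (χ.comp (algebraMap B A1)) = maximalIdeal B)
  (hsurj : Function.Surjective (χ.comp (algebraMap B A1)))

include hker hsurj in
theorem core' [Algebra (MvPolynomial (Fin n) B) B] [Algebra (MvPolynomial (Fin n) B) k]
    (h1 : ∀ r : B, algebraMap (MvPolynomial (Fin n) B) B (C r) = r)
    (h2 : ∀ p, algebraMap (MvPolynomial (Fin n) B) k p = χ (algebraMap _ A1 p))
    (h3 : ∀ p, χ (algebraMap B A1 (algebraMap (MvPolynomial (Fin n) B) B p)) =
      χ (algebraMap _ A1 p)) :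
    ∃ (B' : Type u) (_ : CommRing B') (_ : IsDomain B') (_ : IsDiscreteValuationRing B')
      (ψ : A1 →+* B'),
      Ideal.comap ψ (maximalIdeal B') = RingHom.ker χ ∧
      Function.Injective (ψ.comp (algebraMap B A1)) ∧
      Ideal.map (ψ.comp (algebraMap B A1)) (maximalIdeal B) = maximalIdeal B' ∧
      Function.Surjective ((IsLocalRing.residue B').comp (ψ.comp (algebraMap B A1))) := by
  let f1 : B →ₐ[MvPolynomial (Fin n) B] k :=
    { (χ.comp (algebraMap B A1)) with
      commutes' := fun p => by
        rw [h2]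
        exact h3 p }
  let f2 : A1 →ₐ[MvPolynomial (Fin n) B] k :=
    { χ with commutes' := fun p => (h2 p).symm }
  let θ0 : B ⊗[MvPolynomial (Fin n) B] A1 →ₐ[MvPolynomial (Fin n) B] k :=
    Algebra.TensorProduct.lift f1 f2 (fun _ _ => Commute.all _ _)
  let θ : B ⊗[MvPolynomial (Fin n) B] A1 →+* k := θ0.toRingHom
  let j : A1 →ₐ[MvPolynomial (Fin n) B] B ⊗[MvPolynomial (Fin n) B] A1 :=
    Algebra.TensorProduct.includeRight
  have hθj : ∀ y, θ (j y) = χ y := by
    intro y
    change θ0 ((1 : B) ⊗ₜ y) = χ y
    rw [Algebra.TensorProduct.lift_tmul]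
    change f1 1 * χ y = χ y
    rw [map_one, one_mul]
  have hjB : ∀ b, j (algebraMap B A1 b) = algebraMap B (B ⊗[MvPolynomial (Fin n) B] A1) b := by
    intro b
    change (1 : B) ⊗ₜ[MvPolynomial (Fin n) B] (algebraMap B A1 b) = _
    rw [IsScalarTower.algebraMap_apply B (MvPolynomial (Fin n) B) A1, MvPolynomial.algebraMap_eq,
      Algebra.algebraMap_eq_smul_one, ← TensorProduct.smul_tmul, Algebra.TensorProduct.algebraMap_apply,
      Algebra.smul_def, mul_one, h1]
    rfl
  have hθB : θ.comp (algebraMap B (B ⊗[MvPolynomial (Fin n) B] A1)) = χ.comp (algebraMap B A1) := by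
    ext b
    rw [RingHom.comp_apply, ← hjB, hθj]
    rfl
  haveI : (RingHom.ker θ).IsPrime := RingHom.ker_isPrime θ
  have hQ : (RingHom.ker θ).comap (algebraMap B (B ⊗[MvPolynomial (Fin n) B] A1)) =
      maximalIdeal B := by
    rw [RingHom.comap_ker, hθB, hker]
  obtain ⟨hdom, hdvr, hinj, hmap⟩ := l1 B (B ⊗[MvPolynomial (Fin n) B] A1) (RingHom.ker θ) hQ
  have hres := l2 B (B ⊗[MvPolynomial (Fin n) B] A1) θ (by rw [hθB]; exact hsurj)
  have hψB : ((algebraMap (B ⊗[MvPolynomial (Fin n) B] A1)
      (Localization.AtPrime (RingHom.ker θ))).comp j.toRingHom).comp (algebraMap B A1) =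
      algebraMap B (Localization.AtPrime (RingHom.ker θ)) := by
    ext b
    simp only [RingHom.comp_apply]
    change algebraMap _ _ (j (algebraMap B A1 b)) = _
    rw [hjB, ← IsScalarTower.algebraMap_apply]
  refine ⟨Localization.AtPrime (RingHom.ker θ), inferInstance, hdom, hdvr,
    (algebraMap _ (Localization.AtPrime (RingHom.ker θ))).comp j.toRingHom, ?_, ?_, ?_, ?_⟩
  · have h1' : (maximalIdeal (Localization.AtPrime (RingHom.ker θ))).under
        (B ⊗[MvPolynomial (Fin n) B] A1) = RingHom.ker θ :=
      IsLocalization.AtPrime.under_maximalIdeal _ _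
    rw [Ideal.under_def] at h1'
    rw [← Ideal.comap_comap, h1', RingHom.comap_ker]
    congr 1
    ext y
    exact hθj y
  · rw [hψB]
    exact hinj
  · rw [hψB]
    exact hmap
  · rw [hψB]
    exact hres

include n hker hsurj in
theorem core :
    ∃ (B' : Type u) (_ : CommRing B') (_ : IsDomain B') (_ : IsDiscreteValuationRing B')
      (ψ : A1 →+* B'),
      Ideal.comap ψ (maximalIdeal B') = RingHom.ker χ ∧
      Function.Injective (ψ.comp (algebraMap B A1)) ∧
      Ideal.map (ψ.comp (algebraMap B A1)) (maximalIdeal B) = maximalIdeal B' ∧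
      Function.Surjective ((IsLocalRing.residue B').comp (ψ.comp (algebraMap B A1))) := by
  have hb : ∀ i : Fin n, ∃ b : B, χ (algebraMap B A1 b) =
      χ (algebraMap (MvPolynomial (Fin n) B) A1 (X i)) := fun i => hsurj _
  choose b hb using hb
  letI algPB : Algebra (MvPolynomial (Fin n) B) B :=
    (aeval b : MvPolynomial (Fin n) B →ₐ[B] B).toRingHom.toAlgebra
  letI algPk : Algebra (MvPolynomial (Fin n) B) k :=
    (χ.comp (algebraMap (MvPolynomial (Fin n) B) A1)).toAlgebra
  refine core' (n := n) B A1 χ hker hsurj ?_ ?_ ?_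
  · intro r
    change aeval b (C r) = r
    simp
  · intro p
    rfl
  · intro p
    change χ (algebraMap B A1 (aeval b p)) = χ (algebraMap _ A1 p)
    induction p using MvPolynomial.induction_on with
    | C r =>
      rw [aeval_C, ← MvPolynomial.algebraMap_eq,
        ← IsScalarTower.algebraMap_apply B (MvPolynomial (Fin n) B) A1]
      rfl
    | add p q hp hq => simp only [map_add, hp, hq]
    | mul_X p i hp => simp only [map_mul, hp, aeval_X, hb]

end Core

section Final

universe u

theorem main
    (B : Type u) [CommRing B] [IsDomain B] [IsDiscreteValuationRing B]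
    (A : Type u) [CommRing A] [Algebra B A] [Algebra.FiniteType B A]
    (p : Ideal A) [p.IsPrime] (hp : p.comap (algebraMap B A) = IsLocalRing.maximalIdeal B)
    [Algebra.IsSmoothAt B p]
    (hres : Function.Surjective ((algebraMap A p.ResidueField).comp (algebraMap B A))) :
    ∃ (B' : Type u) (_ : CommRing B') (_ : IsDomain B') (_ : IsDiscreteValuationRing B')
      (ψ : A →+* B'),
      Ideal.comap ψ (IsLocalRing.maximalIdeal B') = p ∧
      Function.Injective (ψ.comp (algebraMap B A)) ∧
      Ideal.map (ψ.comp (algebraMap B A)) (IsLocalRing.maximalIdeal B) =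
        IsLocalRing.maximalIdeal B' ∧
      Function.Surjective ((IsLocalRing.residue B').comp (ψ.comp (algebraMap B A))) := by
  haveI : Algebra.FinitePresentation B A := Algebra.FinitePresentation.of_finiteType.mp inferInstance
  obtain ⟨f, hfp, n, alg, tower, hstd⟩ :=
    Algebra.IsSmoothAt.exists_isStandardEtale_mvPolynomial (R := B) (p := p)
  have hunit : IsUnit (algebraMap A p.ResidueField f) := by
    apply IsUnit.mk0
    rw [Ne, Ideal.algebraMap_residueField_eq_zero]
    exact hfp
  let χ : Localization.Away f →+* p.ResidueField := IsLocalization.Away.lift f hunit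
  have hχ : ∀ a, χ (algebraMap A (Localization.Away f) a) = algebraMap A p.ResidueField a :=
    fun a => IsLocalization.Away.lift_eq f hunit a
  have hχA : χ.comp (algebraMap A (Localization.Away f)) = algebraMap A p.ResidueField :=
    RingHom.ext hχ
  have hχB : χ.comp (algebraMap B (Localization.Away f)) =
      (algebraMap A p.ResidueField).comp (algebraMap B A) := by
    rw [IsScalarTower.algebraMap_eq B A (Localization.Away f), ← RingHom.comp_assoc, hχA]
  have hker : RingHom.ker (χ.comp (algebraMap B (Localization.Away f))) = maximalIdeal B := by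
    rw [hχB, ← RingHom.comap_ker, Ideal.ker_algebraMap_residueField, hp]
  obtain ⟨B', i1, i2, i3, ψ1, h1, h2, h3, h4⟩ :=
    core (n := n) B (Localization.Away f) χ hker (by rw [hχB]; exact hres)
  have hψ : (ψ1.comp (algebraMap A (Localization.Away f))).comp (algebraMap B A) =
      ψ1.comp (algebraMap B (Localization.Away f)) := by
    rw [RingHom.comp_assoc, ← IsScalarTower.algebraMap_eq]
  refine ⟨B', i1, i2, i3, ψ1.comp (algebraMap A (Localization.Away f)), ?_, ?_, ?_, ?_⟩
  · rw [← Ideal.comap_comap, h1, RingHom.comap_ker, hχA, Ideal.ker_algebraMap_residueField]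
  · rw [hψ]
    exact h2
  · rw [hψ]
    exact h3
  · rw [hψ]
    exact h4

end Final

end Groth.Agent.H5.DvrEt
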